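import Cfsg.Agent.H568.EP.JThree
import Cfsg.Agent.KFacts.M24Two.Out
import Cfsg.Agent.S0365

/-!
# S3499-V, the sporadic row `soc(A) = M24` (helper118)
-/

set_option autoImplicit false

namespace Cfsg.Agent.H118.EPS

open Subgroup Cfsg Cfsg.Agent.H284 Cfsg.Agent.H419.EP Cfsg.Agent.H59.EP Cfsg.Agent.H436

universe u

/-- `Aut L = Inn L` implies `|Aut L| ≤ |L|` -/
theorem card_mulAut_le {L : Type*} [Group L] [Finite L] (h : ∀ α : MulAut L, ∃ g, α = MulAut.conj g) :
    Nat.card (MulAut L) ≤ Nat.card L :=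
  Nat.card_le_card_of_surjective (fun g : L => MulAut.conj g) fun α => by
    obtain ⟨g, rfl⟩ := h α
    exact ⟨g, rfl⟩

theorem m24_facts {L : Type*} [Group L] (h : Spor.IsoM24 L) : Nat.card L = 244823040 ∧ IsSimpleGroup L ∧
    Nat.card (MulAut L) ≤ 244823040 := by
  obtain ⟨e⟩ := h
  have h1 := Cfsg.Agent.SporadicA.M24Trans.card_M24
  have : IsSimpleGroup M24 := Cfsg.Agent.S0365.result
  have : Finite M24 := Nat.finite_of_card_ne_zero (by rw [h1]; norm_num)
  refine ⟨by rw [Nat.card_congr e.toEquiv, h1], e.isSimpleGroup, ?_⟩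
  rw [Nat.card_congr (MulAut.congr e).toEquiv, ← h1]
  exact card_mulAut_le Cfsg.Agent.KFacts.M24Two.Out.exists_conj

/-- the upper bound -/
theorem m24_card {Q : Type u} [Group Q] [Finite Q] {A : Subgroup Q} {Γ : Subgroup (MulAut Q)} (hg : TwoGen.{u})
    (hs : IsSimpleGroup Q) (h : EPT A Γ) {L : Type*} [Group L] (hsoc : HasSoc A L) (hL : Spor.IsoM24 L) :
    Nat.card A = 244823040 ∧ Nat.card Q < 2 ^ 108 := by
  obtain ⟨h1, h2, h3⟩ := m24_facts hL
  have hfin : Finite L := Nat.finite_of_card_ne_zero (by rw [h1]; norm_num)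
  have hnc := H568.EP.noncomm_of h2 (by rw [h1]; norm_num)
  have hA : Nat.card A = 244823040 :=
    le_antisymm (hsoc.card_le.trans h3) (h1 ▸ Nat.le_of_dvd Nat.card_pos hsoc.card_dvd)
  have hab := fun K h1 h3 h4 => hsoc.no_abelian (K := K) h2 hnc h1 h3 h4
  refine ⟨hA, ?_⟩
  have h5 := H831.EPV.index_le_two hg hs h hab [(2, 10), (3, 3), (5, 1), (7, 1), (11, 1), (23, 1)]
    (by decide +kernel) (by decide +kernel) (by decide +kernel) (by rw [hA]; decide +kernel)
  rw [hA] at h5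
  rw [← A.card_mul_index, hA]
  exact lt_of_le_of_lt (Nat.mul_le_mul_left _ h5) (by decide +kernel)

/-- **The row `M24`.** -/
theorem m24 (hg : TwoGen.{0}) : BigOf (fun L _ => Spor.IsoM24 L) := by
  rintro Q _ _ A Γ ι _ _ F _ _ S P b h
  obtain ⟨hA, hQ⟩ := m24_card hg b.simple b.ept b.hasSoc h
  have h23 : 23 ∣ Nat.card Q := by
    refine Nat.dvd_trans ?_ (Subgroup.card_subgroup_dvd_card A)
    rw [hA]
    norm_num
  rcases H568.EP.big_or b with h2 | h2 | h2
  · have : (2 : ℕ) ^ 108 ≤ 2 ^ 117 := by norm_num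
    omega
  · rw [h2.ord] at h23
    revert h23
    decide +kernel
  · rw [h2.ord] at h23
    revert h23
    decide +kernel

end Cfsg.Agent.H118.EPS
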